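import Cfsg.Agent.H843.FullFiB

/-!
# The centre of a Sylow `3`-subgroup of `Fi24'` commutes with an involution (helper411)

`exists_inv_of_iso` : `X ≅ Fi24'`, `d ∈ X` with `|X : C(d)|` prime to 3: `d` commutes with an involution.
-/

set_option autoImplicit false
set_option maxRecDepth 100000

namespace Cfsg.Agent.H411.FiCent

open Subgroup Cfsg Cfsg.Agent.H749
open Cfsg.Agent.H841.Sev
open Cfsg.Agent.H843.FullFi
open Cfsg.Agent.Fischer.Fi24RepDef Cfsg.Agent.Fischer.Fi24Rep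
open Cfsg.Agent.R08.FiTwentyFour (L finite_Fi24)
open Cfsg.Spor (Fi24)
open Cfsg.Spor.Fi24 (Gen)

local instance : Fact (Nat.Prime 3) := ⟨Nat.prime_three⟩

theorem comm35 : Commute (tv 3) (tv 5) := by
  rw [tv3, tv5, ← w1, ← w1]
  exact comm_of (by decide +kernel)

theorem tv0 : tv 0 = gen .j := w1 _

theorem comm05 : Commute (tv 0) (tv 5) := by
  rw [tv0, tv5, ← w1, ← w1]
  exact comm_of (by decide +kernel)

/-- two commuting transpositions fixing a vector -/
theorem of_pair {i j : Fin 8} (hc : Commute (tv i) (tv j)) {w : V} (hi : rf i w = w) (hj : rf j w = w) {u : V}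
    (hu : rf i u ≠ rf j u) {v : V} {m : Fi24} (hm : m * vec v * m⁻¹ = vec w) :
    ∃ t ∈ G', t * t = 1 ∧ t ≠ 1 ∧ t * vec v = vec v * t := by
  have hs : (tv i * tv j) * (tv i * tv j) = 1 := by
    calc (tv i * tv j) * (tv i * tv j) = tv i * (tv j * tv i) * tv j := by group
      _ = (tv i * tv i) * (tv j * tv j) := by rw [← hc.eq]; group
      _ = 1 := by rw [tv_sq, tv_sq, mul_one]
  have h1 : tv i * tv j ≠ 1 := by
    intro h
    apply hu
    apply vec_inj
    have h2 : tv i = tv j := by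
      rw [← tv_inv j]
      exact eq_inv_of_mul_eq_one_left h
    rw [← act, ← act, h2]
  have h2 : (tv i * tv j) * vec w = vec w * (tv i * tv j) := by
    have e1 : tv i * vec w = vec w * tv i := by
      have := act i w
      rw [hi] at this
      exact mul_inv_eq_iff_eq_mul.1 this
    have e2 : tv j * vec w = vec w * tv j := by
      have := act j w
      rw [hj] at this
      exact mul_inv_eq_iff_eq_mul.1 this
    rw [mul_assoc, e2, ← mul_assoc, e1, mul_assoc]
  have hN : (G').Normal := inferInstance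
  refine ⟨m⁻¹ * (tv i * tv j) * m, ?_, ?_, ?_, ?_⟩
  · have := hN.conj_mem (tv i * tv j) (Cfsg.Agent.R08.FiTwentyFour.even (tv_mem i) (tv_mem j)) m⁻¹
    rwa [inv_inv] at this
  · calc m⁻¹ * (tv i * tv j) * m * (m⁻¹ * (tv i * tv j) * m) = m⁻¹ * ((tv i * tv j) * (tv i * tv j)) * m := by group
      _ = 1 := by rw [hs]; group
  · intro h
    apply h1
    calc tv i * tv j = m * (m⁻¹ * (tv i * tv j) * m) * m⁻¹ := by group
      _ = 1 := by rw [h]; group
  · have hv : vec v = m⁻¹ * vec w * m := by rw [← hm]; group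
    rw [hv]
    calc m⁻¹ * (tv i * tv j) * m * (m⁻¹ * vec w * m) = m⁻¹ * ((tv i * tv j) * vec w) * m := by group
      _ = m⁻¹ * (vec w * (tv i * tv j)) * m := by rw [h2]
      _ = _ := by group

/-- every element of `A` commutes with an involution of `Fi24'` -/
theorem exists_inv_vec (v : V) : ∃ t ∈ G', t * t = 1 ∧ t ≠ 1 ∧ t * vec v = vec v * t := by
  by_cases hv : v = 0
  · subst hv
    exact of_pair (i := 3) (j := 5) comm35 (w := 0) (by decide) (by decide) (u := Pi.single 3 1) (by decide)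
      (m := 1) (by group)
  rcases path_root v hv with h | h | h
  · obtain ⟨m, -, hm⟩ := h.conj'
    exact of_pair comm05 (w := r1) (by decide) (by decide) (u := Pi.single 0 1) (by decide) hm
  · obtain ⟨m, -, hm⟩ := h.conj'
    exact of_pair comm35 (w := y2) (by decide) (by decide) (u := Pi.single 3 1) (by decide) hm
  · obtain ⟨m, -, hm⟩ := h.conj'
    exact of_pair comm35 (w := y3) (by decide) (by decide) (u := Pi.single 3 1) (by decide) hm

theorem exists_inv {d : ↥G'} (hd : ¬ 3 ∣ (centralizer ({d} : Set ↥G')).index) :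
    ∃ t : ↥G', t * t = 1 ∧ t ≠ 1 ∧ t * d = d * t := by
  have : Finite Fi24 := finite_Fi24
  have hA : IsPGroup 3 (A.subgroupOf G') := isPGroup_A.comap_of_injective (G').subtype (G').subtype_injective
  -- a conjugate of `A` in the centralizer of `d`
  obtain ⟨g, hg⟩ : ∃ g : ↥G', ∀ v : V, ∀ h : vec v ∈ G', (g * ⟨vec v, h⟩ * g⁻¹) * d = d * (g * ⟨vec v, h⟩ * g⁻¹) := by
    obtain ⟨S⟩ : Nonempty (Sylow 3 ↥(centralizer ({d} : Set ↥G'))) := inferInstance
    have hS : IsPGroup 3 ((S : Subgroup ↥(centralizer ({d} : Set ↥G'))).map (centralizer ({d} : Set ↥G')).subtype) :=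
      S.2.map _
    have hidx : ¬ 3 ∣ ((S : Subgroup ↥(centralizer ({d} : Set ↥G'))).map (centralizer ({d} : Set ↥G')).subtype).index := by
      rw [Subgroup.index_map_subtype]
      intro h
      rcases (Nat.Prime.dvd_mul Nat.prime_three).1 h with h | h
      · exact S.not_dvd_index h
      · exact hd h
    let S1 : Sylow 3 ↥G' := hS.toSylow hidx
    obtain ⟨S2, hS2⟩ := hA.exists_le_sylow
    obtain ⟨g, hg⟩ := MulAction.exists_smul_eq ↥G' S2 S1
    refine ⟨g, fun v h => ?_⟩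
    have h1 : (⟨vec v, h⟩ : ↥G') ∈ (S2 : Subgroup ↥G') := hS2 (vec_mem v)
    have h2 : g * ⟨vec v, h⟩ * g⁻¹ ∈ (S1 : Subgroup ↥G') := by
      rw [← hg, Sylow.coe_subgroup_smul]
      exact ⟨_, h1, rfl⟩
    obtain ⟨c, -, hc⟩ := (show g * ⟨vec v, h⟩ * g⁻¹ ∈
      (S : Subgroup ↥(centralizer ({d} : Set ↥G'))).map (centralizer ({d} : Set ↥G')).subtype from h2)
    rw [← hc]
    exact mem_centralizer_singleton_iff.1 c.2
  -- the conjugate of `d` is in `A`
  have hdA : ((g⁻¹ * d * g : ↥G') : Fi24) ∈ A := by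
    apply mem_A_of_comm
    rintro _ ⟨v, rfl⟩
    have h1 := hg v (vec_mem' v)
    have h2 : (g⁻¹ * d * g) * ⟨vec v, vec_mem' v⟩ = ⟨vec v, vec_mem' v⟩ * (g⁻¹ * d * g) := by
      calc (g⁻¹ * d * g) * ⟨vec v, vec_mem' v⟩ = g⁻¹ * (d * (g * ⟨vec v, vec_mem' v⟩ * g⁻¹)) * g := by group
        _ = g⁻¹ * ((g * ⟨vec v, vec_mem' v⟩ * g⁻¹) * d) * g := by rw [h1]
        _ = _ := by group
    exact congrArg Subtype.val h2
  obtain ⟨v, hv⟩ := hdA
  obtain ⟨t, ht, ht2, ht1, htv⟩ := exists_inv_vec v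
  have hd' : d = g * (⟨vec v, vec_mem' v⟩ : ↥G') * g⁻¹ := by
    have : (⟨vec v, vec_mem' v⟩ : ↥G') = g⁻¹ * d * g := Subtype.ext hv
    rw [this]; group
  have htv' : (⟨t, ht⟩ : ↥G') * ⟨vec v, vec_mem' v⟩ = ⟨vec v, vec_mem' v⟩ * ⟨t, ht⟩ := Subtype.ext htv
  have ht2' : (⟨t, ht⟩ : ↥G') * ⟨t, ht⟩ = 1 := Subtype.ext ht2
  refine ⟨g * ⟨t, ht⟩ * g⁻¹, ?_, ?_, ?_⟩
  · calc g * (⟨t, ht⟩ : ↥G') * g⁻¹ * (g * ⟨t, ht⟩ * g⁻¹) = g * (⟨t, ht⟩ * ⟨t, ht⟩) * g⁻¹ := by group
      _ = 1 := by rw [ht2']; group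
  · intro h
    have h1 : (⟨t, ht⟩ : ↥G') = 1 := conj_eq_one_iff.1 h
    exact ht1 (congrArg Subtype.val h1)
  · rw [hd']
    calc g * (⟨t, ht⟩ : ↥G') * g⁻¹ * (g * ⟨vec v, vec_mem' v⟩ * g⁻¹) =
        g * (⟨t, ht⟩ * ⟨vec v, vec_mem' v⟩) * g⁻¹ := by group
      _ = g * (⟨vec v, vec_mem' v⟩ * ⟨t, ht⟩) * g⁻¹ := by rw [htv']
      _ = _ := by group

/-- **A `3`-central element of `Fi24'` commutes with an involution.** -/
theorem exists_inv_of_iso {X : Type*} [Group X] [Finite X] (h : Cfsg.Spor.IsoFi24' X) {d : X}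
    (hd : ¬ 3 ∣ (centralizer ({d} : Set X)).index) : ∃ t : X, t * t = 1 ∧ t ≠ 1 ∧ t * d = d * t := by
  obtain ⟨e⟩ := h
  have h1 : (centralizer ({e d} : Set Cfsg.Spor.Fi24')).comap e.toMonoidHom = centralizer ({d} : Set X) := by
    ext x
    rw [mem_comap, mem_centralizer_singleton_iff, mem_centralizer_singleton_iff]
    show e x * e d = e d * e x ↔ _
    rw [← map_mul, ← map_mul]
    exact e.injective.eq_iff
  have h2 : (centralizer ({e d} : Set Cfsg.Spor.Fi24')).index = (centralizer ({d} : Set X)).index := by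
    rw [← h1]
    exact (Subgroup.index_comap_of_surjective _ e.surjective).symm
  obtain ⟨t, ht, ht1, htd⟩ := exists_inv (d := e d) (by rw [h2]; exact hd)
  refine ⟨e.symm t, ?_, ?_, ?_⟩
  · rw [← map_mul, ht, map_one]
  · intro h
    exact ht1 ((map_eq_one_iff _ e.symm.injective).1 h)
  · apply e.injective
    rw [map_mul, map_mul, MulEquiv.apply_symm_apply, htd]

end Cfsg.Agent.H411.FiCent
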