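import Cfsg.Agent.H411.PCore
import Cfsg.Agent.H411.FiCent
import Cfsg.Agent.H812.FullCo1
import Cfsg.Agent.H843.FullB3
import Cfsg.Agent.H843.FullFiD
import Cfsg.Agent.LThreeMB.Row
import Cfsg.Agent.LThreeMB.CoOneFin
import Cfsg.Agent.MFive.Row
import Cfsg.Agent.LThreeM.SigRow

/-!
# The Monster: every nontrivial class of `3`-elements is everything (helper411)

`fullP_m_three : IsoM G → FullP 3 G`.

`x` an element of order 3 with `C(x)/⟨x⟩ ≅ Fi24'`, `T` a Sylow 3-subgroup of `C(x)`, `S ≥ T` a Sylow 3-subgroup of `M`; a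
nontrivial class contains an element `d` of order 3 of `Z(S)`; `d ∈ C(x)` and its image in `Fi24'` commutes with an
involution (`FiCent`), which lifts to an involution commuting with `d`. So `d` commutes with a conjugate of the `2B`-involution
`z` and, by the order of `C(d)`, is conjugate to an element `x₀` of fixed rank 0 of `C(z)`. Then `z` is isolated in `C(x₀)`
(helper68), and `PCore.all_of_isolated` applies to `C(x₀)`.
-/

set_option autoImplicit false

namespace Cfsg.Agent.H411.MThree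

open Subgroup Cfsg Cfsg.Agent.H749
open Cfsg.Agent.MonsterU Cfsg.Agent.LThree Cfsg.Agent.LThreeMB
open Cfsg.Agent.MonsterU.Ch
open Cfsg.Agent.MonsterU.Lam2 (L2 IsType)
open Cfsg.Spor (Co1)

universe u

local instance : Fact (Nat.Prime 3) := ⟨Nat.prime_three⟩

/-! ### Generalities -/

section gen

variable {G : Type u} [Group G]

theorem fullP_conj {p : ℕ} {x x' g : G} (hg : g * x' * g⁻¹ = x) (h : FullP p ↥(centralizer ({x'} : Set G))) :
    FullP p ↥(centralizer ({x} : Set G)) := by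
  obtain ⟨⟨e⟩, -⟩ := exists_XX_equiv hg
  exact h.of_mulEquiv e

/-- a power of order `p` -/
theorem exists_pow {p : ℕ} [hp : Fact p.Prime] {d : G} (hd : PEl p d) (hd1 : d ≠ 1) : ∃ n : ℕ, orderOf (d ^ n) = p := by
  obtain ⟨k, hk⟩ := hd
  obtain ⟨m, -, hm⟩ := (Nat.dvd_prime_pow hp.out).1 (orderOf_dvd_of_pow_eq_one hk)
  cases m with
  | zero =>
    rw [pow_zero, orderOf_eq_one_iff] at hm
    exact absurd hm hd1
  | succ m =>
    refine ⟨p ^ m, ?_⟩
    rw [orderOf_pow' _ (pow_ne_zero m hp.out.ne_zero), hm, Nat.gcd_eq_right (pow_dvd_pow p (Nat.le_succ m)), pow_succ,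
      Nat.mul_div_cancel_left _ (Nat.pow_pos hp.out.pos)]

theorem card_cent [Finite G] {x : G} {n : ℕ} (hx : orderOf x = 3) (hn : Nat.card (XX x) = n) :
    Nat.card ↥(centralizer ({x} : Set G)) = n * 3 := by
  rw [Subgroup.card_eq_card_quotient_mul_card_subgroup (Zx x), hn, Zx, Nat.card_zpowers]
  congr 1
  rw [← hx, ← Subgroup.orderOf_coe]
  rfl

/-- an involution of `C(x)/⟨x⟩` commuting with the image of `d` gives an involution commuting with `d` -/
theorem exists_lift_inv {x d : G} (hx : orderOf x = 3) (hdx : d * x = x * d) {t : XX x} (ht : t * t = 1)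
    (ht1 : t ≠ 1) (htd : t * mk x hdx = mk x hdx * t) : ∃ v : G, v * v = 1 ∧ v ≠ 1 ∧ v * d = d * v := by
  obtain ⟨s, hs, rfl⟩ := exists_mk t
  have hx3 : x ^ 3 = 1 := by rw [← hx, pow_orderOf_eq_one]
  -- membership in `⟨x⟩`
  have key : ∀ g : G, ∀ hg : g * x = x * g, mk x hg = 1 → ∃ i : ℤ, g = x ^ i := by
    intro g hg h
    have h1 := (QuotientGroup.eq_one_iff _).1 h
    obtain ⟨i, hi⟩ := Subgroup.mem_zpowers_iff.1 h1
    exact ⟨i, (congrArg Subtype.val hi).symm⟩
  have hss : (s * s) * x = x * (s * s) := by rw [mul_assoc, hs, ← mul_assoc, hs, mul_assoc]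
  obtain ⟨i, hi⟩ := key (s * s) hss ht
  have hxz : ∀ k : ℤ, (x ^ k) ^ 3 = 1 := by
    intro k
    rw [← zpow_natCast, ← zpow_mul, mul_comm, zpow_mul, zpow_natCast, hx3, one_zpow]
  have hx6 : ∀ k : ℤ, x ^ k * x ^ k = 1 → x ^ k = 1 := by
    intro k hk
    have h1 := hxz k
    rw [pow_succ, pow_two, hk, one_mul] at h1
    exact h1
  set v := s ^ 3 with hv
  have hvv : v * v = 1 := by
    have h1 : v * v = (s * s) ^ 3 := by rw [hv, (Commute.refl s).mul_pow]
    rw [h1, hi, hxz]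
  have hvx : v * x = x * v := by
    rw [hv]
    exact ((show Commute s x from hs).pow_left 3).eq
  have hmv : mk x hvx = mk x hs := by
    have h1 : mk x hvx = mk x hs * mk x hs * mk x hs := by
      show (QuotientGroup.mk _ : XX x) = QuotientGroup.mk _ * QuotientGroup.mk _ * QuotientGroup.mk _
      rw [← QuotientGroup.mk_mul, ← QuotientGroup.mk_mul]
      congr 1
      exact Subtype.ext (by show s ^ 3 = s * s * s; rw [pow_succ, pow_two])
    rw [h1, ht, one_mul]
  refine ⟨v, hvv, ?_, ?_⟩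
  · intro h1
    apply ht1
    rw [← hmv]
    have h2 : (⟨v, mem_centralizer_singleton_iff.2 hvx⟩ : ↥(centralizer ({x} : Set G))) = 1 := Subtype.ext h1
    show (QuotientGroup.mk (⟨v, mem_centralizer_singleton_iff.2 hvx⟩ : ↥(centralizer ({x} : Set G))) : XX x) = 1
    rw [h2, QuotientGroup.mk_one]
  · have hcx : (v * d * v⁻¹ * d⁻¹) * x = x * (v * d * v⁻¹ * d⁻¹) := by
      have c1 : Commute v x := hvx
      have c2 : Commute d x := hdx
      exact (((c1.mul_left c2).mul_left c1.inv_left).mul_left c2.inv_left).eq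
    obtain ⟨k, hk⟩ := key _ hcx (by
      have h1 : mk x hcx = mk x hvx * mk x hdx * (mk x hvx)⁻¹ * (mk x hdx)⁻¹ := by
        show (QuotientGroup.mk _ : XX x) = QuotientGroup.mk _ * QuotientGroup.mk _ * (QuotientGroup.mk _)⁻¹ *
          (QuotientGroup.mk _)⁻¹
        rw [← QuotientGroup.mk_inv, ← QuotientGroup.mk_inv, ← QuotientGroup.mk_mul, ← QuotientGroup.mk_mul,
          ← QuotientGroup.mk_mul]
        rfl
      rw [h1, hmv, htd]
      group)
    have hv' : v⁻¹ = v := inv_eq_of_mul_eq_one_left hvv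
    have h1 : v * d * v⁻¹ = x ^ k * d := by rw [← hk]; group
    have h2 : v * (v * d * v⁻¹) * v⁻¹ = d := by
      calc v * (v * d * v⁻¹) * v⁻¹ = (v * v) * d * (v * v)⁻¹ := by group
        _ = d := by rw [hvv]; group
    have c1 : Commute v (x ^ k) := (show Commute v x from hvx).zpow_right k
    have h3 : x ^ k * x ^ k * d = d := by
      calc x ^ k * x ^ k * d = x ^ k * (v * d * v⁻¹) := by rw [h1, mul_assoc]
        _ = (v * x ^ k) * d * v⁻¹ := by rw [c1.eq]; group
        _ = v * (v * d * v⁻¹) * v⁻¹ := by rw [h1]; group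
        _ = d := h2
    have h4 := hx6 k (mul_eq_right.1 h3)
    rw [h4, one_mul] at h1
    exact mul_inv_eq_iff_eq_mul.1 h1

end gen

/-! ### The chart -/

section chart

variable {G : Type u} [Group G] {Q : Subgroup G} {z : G} {eta : G → L2}
  {pi : Subgroup.centralizer ({z} : Set G) →* Co1}

theorem fullP_z [Finite G] (h : Chart Q z eta pi) (hCo : FullP 3 Co1) : FullP 3 ↥(centralizer ({z} : Set G)) := by
  have hfin : Finite Co1 := Finite.of_surjective _ h.pi_surj
  refine H792.SpTool.fullP_of_surjective_pprime pi h.pi_surj ?_ hCo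
  intro h3
  apply not_three_dvd h
  refine h3.trans ?_
  have h1 : Nat.card ↥pi.ker = Nat.card ↥(pi.ker.map (centralizer ({z} : Set G)).subtype) :=
    (card_map_of_injective (Subgroup.subtype_injective _)).symm
  rw [h1]
  refine card_dvd_of_le ?_
  rintro _ ⟨c, hc, rfl⟩
  exact (h.pi_eq_one c).1 hc

/-- **The elements of order 3 of `C(z)` by fixed ranks.** -/
theorem iso_of_rank [Finite G] [IsSimpleGroup G] (h : Chart Q z eta pi) (I : CoOne)
    {x : Subgroup.centralizer ({z} : Set G)} (hx : orderOf x = 3) :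
    (fr (pi x) = 2 ^ 8 → Spor.IsoTh (XX (x : G))) ∧ (fr (pi x) = 2 ^ 12 → Spor.IsoFi24' (XX (x : G))) := by
  constructor
  · intro hfr
    obtain ⟨s, hs, hfs, ⟨e⟩, hg, hf⟩ := I.nine
    obtain ⟨x', hx', hs', c, hc⟩ := exists_conj_to h hx hs (by rw [hfr]; exact I.eight) (by rw [hfs, hfr])
    subst hs'
    obtain ⟨-, ⟨f⟩⟩ := exists_XX_equiv hc
    exact isoTh_congr f (iso_th h hx' hfs (by rw [hfs]; exact I.eight) hf e hg)
  · intro hfr
    obtain ⟨s, hs, hfs, ht, h4⟩ := I.psu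
    obtain ⟨x', hx', hs', c, hc⟩ := exists_conj_to h hx hs (by rw [hfr]; exact I.twelve) (by rw [hfs, hfr])
    subst hs'
    obtain ⟨-, ⟨f⟩⟩ := exists_XX_equiv hc
    exact isoFi24_congr f (iso_fi24 h hx' hfs (by rw [hfs]; exact I.twelve) ht h4)

/-- **The theorem for a group with a chart.** -/
theorem fullP_of_chart [Finite G] [IsSimpleGroup G] (h : Chart Q z eta pi) (I : CoOne) (h0 : ClassOf 1) (ht : TrNe z pi)
    (hpair : HasPair z pi)
    (hex : ∀ x : G, orderOf x = 3 → (∃ v : G, v * v = 1 ∧ v ≠ 1 ∧ v * x = x * v) →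
      ∃ g : G, (g * z * g⁻¹) * x = x * (g * z * g⁻¹))
    {t : G} (two : ∀ u : G, u * u = 1 → u ≠ 1 → (∃ g, g * z * g⁻¹ = u) ∨ ∃ g, g * t * g⁻¹ = u)
    (hcard : 3 ^ 20 ∣ Nat.card G) (hCo : FullP 3 Co1) (hB : FullP 3 ↥(centralizer ({t} : Set G))) : FullP 3 G := by
  rintro P hP ⟨w, hw, hw1, hPw⟩ y hy
  have hz2 : z * z = 1 := h.large.z_sq
  have hCz := fullP_z h hCo
  -- the centralizers of all involutions
  have hinv : ∀ v : G, v * v = 1 → v ≠ 1 → FullP 3 ↥(centralizer ({v} : Set G)) := by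
    intro v hv hv1
    rcases two v hv hv1 with ⟨g, hg⟩ | ⟨g, hg⟩
    · exact fullP_conj hg hCz
    · exact fullP_conj hg hB
  -- the element of fixed rank 12
  obtain ⟨s, hs, hfs, -, -⟩ := I.psu
  obtain ⟨x, hx, hxs⟩ := KPair.exists_order_three h hs
  have hxF : Spor.IsoFi24' (XX (x : G)) := (iso_of_rank h I hx).2 (by rw [hxs]; exact hfs)
  have hxo : orderOf (x : G) = 3 := by rw [Subgroup.orderOf_coe]; exact hx
  -- Sylow subgroups
  have hzx : IsPGroup 3 (zpowers (self (x : G))) := isPGroup_zpowers ⟨1, by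
    rw [pow_one]
    exact Subtype.ext (by show (x : G) ^ 3 = 1; rw [← hxo, pow_orderOf_eq_one])⟩
  obtain ⟨T, hT⟩ := hzx.exists_le_sylow
  have hxT : self (x : G) ∈ (T : Subgroup _) := hT (mem_zpowers _)
  have hT' : IsPGroup 3 ((T : Subgroup ↥(centralizer ({(x : G)} : Set G))).map (centralizer ({(x : G)} : Set G)).subtype) :=
    T.2.map _
  obtain ⟨S, hS⟩ := hT'.exists_le_sylow
  obtain ⟨d0, hd0, hd01, hd0c⟩ := H280.StrongFusion.exists_mem_center S (H792.SpTool.part_closed hP S)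
    (H792.SpTool.part_ne_bot hP S hw hw1 hPw)
  obtain ⟨n, hn⟩ := exists_pow (PEl.of_isPGroup S.2 hd0.1) hd01
  set d := d0 ^ n with hd
  have hdS : d ∈ (S : Subgroup G) := pow_mem hd0.1 n
  have hdP : P d := hP.pow (PEl.of_isPGroup S.2 hd0.1) hd0.2 n
  have hdc : ∀ s ∈ (S : Subgroup G), s * d = d * s := fun s hs =>
    ((show Commute d0 s from (hd0c s hs).symm).pow_left n).eq.symm
  have hidx : ¬ 3 ∣ (centralizer ({d} : Set G)).index := by
    intro h1
    have h2 : (S : Subgroup G) ≤ centralizer ({d} : Set G) := fun s hs => mem_centralizer_singleton_iff.2 (hdc s hs)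
    exact S.not_dvd_index (h1.trans (index_dvd_of_le h2))
  have hdcard : 3 ^ 20 ∣ Nat.card ↥(centralizer ({d} : Set G)) := by
    refine Nat.Coprime.dvd_of_dvd_mul_right (k := 3 ^ 20) (n := (centralizer ({d} : Set G)).index) ?_ ?_
    · exact Nat.Coprime.pow_left 20 ((Nat.Prime.coprime_iff_not_dvd Nat.prime_three).2 hidx)
    · rw [Subgroup.card_mul_index]; exact hcard
  -- `d` commutes with an involution
  have hdx : d * (x : G) = x * d := (hdc _ (hS ⟨self (x : G), hxT, rfl⟩)).symm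
  have hdinv : ∃ v : G, v * v = 1 ∧ v ≠ 1 ∧ v * d = d * v := by
    have hfX : Finite (XX (x : G)) := Quotient.finite _
    have h1 : ¬ 3 ∣ (centralizer ({mk (x : G) hdx} : Set (XX (x : G)))).index := by
      intro h2
      have h3 : (T : Subgroup ↥(centralizer ({(x : G)} : Set G))).map (QuotientGroup.mk' (Zx (x : G))) ≤
          centralizer ({mk (x : G) hdx} : Set (XX (x : G))) := by
        rintro _ ⟨τ, hτ, rfl⟩
        rw [mem_centralizer_singleton_iff]
        have h4 : τ * ⟨d, mem_centralizer_singleton_iff.2 hdx⟩ = ⟨d, mem_centralizer_singleton_iff.2 hdx⟩ * τ :=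
          Subtype.ext (hdc _ (hS ⟨τ, hτ, rfl⟩))
        exact congrArg (QuotientGroup.mk' (Zx (x : G))) h4
      exact (T.mapSurjective (QuotientGroup.mk'_surjective (Zx (x : G)))).not_dvd_index (h2.trans (index_dvd_of_le h3))
    obtain ⟨τ, h2, h3, h4⟩ := FiCent.exists_inv_of_iso hxF h1
    exact exists_lift_inv hxo hdx h2 h3 h4
  obtain ⟨g, hg⟩ := hex d hn hdinv
  -- a conjugate of `d` in `C(z)`
  have hd'z : (g⁻¹ * d * g) * z = z * (g⁻¹ * d * g) := by
    calc (g⁻¹ * d * g) * z = g⁻¹ * (d * (g * z * g⁻¹)) * g := by group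
      _ = g⁻¹ * ((g * z * g⁻¹) * d) * g := by rw [hg]
      _ = z * (g⁻¹ * d * g) := by group
  let d' : centralizer ({z} : Set G) := ⟨g⁻¹ * d * g, mem_centralizer_singleton_iff.2 hd'z⟩
  have hgd : g * (d' : G) * g⁻¹ = d := by
    show g * (g⁻¹ * d * g) * g⁻¹ = d
    group
  have hd' : orderOf d' = 3 := by
    rw [← Subgroup.orderOf_coe, ← hn, ← hgd]
    exact (orderOf_injective (MulAut.conj g).toMonoidHom (MulAut.conj g).injective (d' : G)).symm
  have hd'o : orderOf (d' : G) = 3 := by rw [Subgroup.orderOf_coe]; exact hd'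
  have hd'card : 3 ^ 20 ∣ Nat.card ↥(centralizer ({(d' : G)} : Set G)) := by
    obtain ⟨⟨e⟩, -⟩ := exists_XX_equiv hgd
    rw [Nat.card_congr e.toEquiv]
    exact hdcard
  -- the pair
  obtain ⟨x₀, u, g₀, hx₀, hfr₀, huz, hux, hne, hg₀⟩ := hpair
  have h812 : ∀ x : Subgroup.centralizer ({z} : Set G), orderOf x = 3 → (fr (pi x) = 2 ^ 8 ∨ fr (pi x) = 2 ^ 12) →
      IsSimpleGroup (XX (x : G)) ∧ Subgroup.center (XX (x : G)) ≠ ⊤ := fun x hx h2 =>
    ⟨(good_of_inputs h I hx h2).simple, (good_of_inputs h I hx h2).nc⟩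
  have hconj : ∃ k : G, k * (d' : G) * k⁻¹ = x₀ := by
    rcases I.ranks (pi d') (orderOf_pi h hd') with h1 | h1 | h1 | h1
    · obtain ⟨c, hc⟩ := h0 (pi d') (pi x₀) (orderOf_pi h hd') (orderOf_pi h hx₀) h1 hfr₀
      obtain ⟨k, hk⟩ := exists_conj_of_conj h (by rw [← hd', pow_orderOf_eq_one]) (by rw [← hx₀, pow_orderOf_eq_one]) hc
      exact ⟨k, congrArg Subtype.val hk⟩
    · exact conj_six h ht I.ranks I.six h812 hx₀ hfr₀ huz hux hne hg₀ hd' h1
    · exfalso
      obtain ⟨e⟩ := (iso_of_rank h I hd').1 h1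
      have h2 := card_cent hd'o ((Nat.card_congr e.toEquiv).trans Cfsg.Agent.S1700.result.2)
      rw [h2] at hd'card
      revert hd'card
      norm_num
    · exfalso
      obtain ⟨e⟩ := (iso_of_rank h I hd').2 h1
      have h2 := card_cent hd'o ((Nat.card_congr e.toEquiv).trans Cfsg.Agent.S1698.result.2)
      rw [h2] at hd'card
      revert hd'card
      norm_num
  obtain ⟨k, hk⟩ := hconj
  -- `d` and `x₀`
  have hkd : (k * g⁻¹) * d * (k * g⁻¹)⁻¹ = x₀ := by
    rw [← hk, ← hgd]; group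
  have hPx₀ : P (x₀ : G) := by rw [← hkd]; exact hP.conj _ hdP
  have hx₀o : orderOf (x₀ : G) = 3 := by rw [Subgroup.orderOf_coe]; exact hx₀
  have hx₀1 : (x₀ : G) ≠ 1 := by
    intro h1
    rw [h1, orderOf_one] at hx₀o
    norm_num at hx₀o
  have hx₀p : PEl 3 (x₀ : G) := ⟨1, by rw [pow_one, ← hx₀o, pow_orderOf_eq_one]⟩
  have hidx₀ : ¬ 3 ∣ (centralizer ({(x₀ : G)} : Set G)).index := by
    have h1 : (centralizer ({(x₀ : G)} : Set G)).index = (centralizer ({d} : Set G)).index := by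
      obtain ⟨⟨e⟩, -⟩ := exists_XX_equiv hkd
      have h2 := Subgroup.card_mul_index (centralizer ({(x₀ : G)} : Set G))
      have h3 := Subgroup.card_mul_index (centralizer ({d} : Set G))
      rw [Nat.card_congr e.toEquiv] at h3
      exact Nat.eq_of_mul_eq_mul_left Nat.card_pos (h2.trans h3.symm)
    rw [h1]
    exact hidx
  -- the isolated involution
  have hx₀3 : x₀ ^ 3 = 1 := by rw [← hx₀, pow_orderOf_eq_one]
  have hiso := fun d hd hc => isolated h ht hx₀ hfr₀ d hd hc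
  have hzo : orderOf (zD x₀) = 2 := by
    rw [← Subgroup.orderOf_coe]
    exact LargeExtra.Base.orderOf_z h.large
  obtain ⟨N, hN, hNo, hsup⟩ := ZStar.exists_core hzo (fun d hd =>
    Subtype.ext (hiso d (mem_centralizer_singleton_iff.1 d.2) (congrArg Subtype.val hd)))
  have huu : u * u = 1 := by
    rw [← hg₀]
    calc g₀ * z * g₀⁻¹ * (g₀ * z * g₀⁻¹) = g₀ * (z * z) * g₀⁻¹ := by group
      _ = 1 := by rw [hz2]; group
  have hu1 : u ≠ 1 := by
    intro h1
    apply h.large.z_ne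
    calc z = g₀⁻¹ * (g₀ * z * g₀⁻¹) * g₀ := by group
      _ = 1 := by rw [hg₀, h1]; group
  have hzx₀ : (x₀ : G) * z = z * x₀ := mem_centralizer_singleton_iff.1 x₀.2
  -- the elements commuting with an involution of `C(x₀)`
  have hall : ∀ v : G, v * v = 1 → v ≠ 1 → (x₀ : G) * v = v * x₀ → ∀ a : G, PEl 3 a → a * v = v * a → P a :=
    fun v hv hv1 hxv a ha hav => H792.SpTool.all_of_fullP_centralizer (hinv v hv hv1) hP hx₀p hx₀1 hxv hPx₀ ha hav
  refine H843.FullExt.all_of_subgroup hP (centralizer ({(x₀ : G)} : Set G)) hidx₀ ?_ hy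
  intro a haC ha
  have haD : PEl 3 (⟨a, haC⟩ : ↥(centralizer ({(x₀ : G)} : Set G))) :=
    PEl.of_map (f := (centralizer ({(x₀ : G)} : Set G)).subtype) (Subgroup.subtype_injective _) ha
  let uD : ↥(centralizer ({(x₀ : G)} : Set G)) := ⟨u, mem_centralizer_singleton_iff.2 hux.symm⟩
  refine PCore.all_of_isolated (p := 3) (by norm_num) hN hNo (z := zD x₀) (u := uD) hsup (Subtype.ext hz2)
    (Subtype.ext huu) (Subtype.ext huz.symm) (hP.comap (centralizer ({(x₀ : G)} : Set G)).subtype) ?_ haD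
  rintro v hv b hb hbv
  have hb' : PEl 3 (b : G) := hb.map (centralizer ({(x₀ : G)} : Set G)).subtype
  have hbv' : (b : G) * (v : G) = v * b := congrArg Subtype.val hbv
  rcases hv with rfl | rfl | rfl
  · exact hall z hz2 h.large.z_ne hzx₀ b hb' hbv'
  · exact hall u huu hu1 hux b hb' hbv'
  · refine hall (z * u) ?_ ?_ ?_ b hb' hbv'
    · calc z * u * (z * u) = z * (u * z) * u := by group
        _ = (z * z) * (u * u) := by rw [huz]; group
        _ = 1 := by rw [hz2, huu, mul_one]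
    · intro h1
      apply hne
      have h2 : z⁻¹ = u := inv_eq_of_mul_eq_one_right h1
      have h3 : z⁻¹ = z := inv_eq_of_mul_eq_one_left hz2
      rw [← h2, h3]
    · rw [← mul_assoc, hzx₀, mul_assoc, hux, ← mul_assoc]

end chart

/-! ### The model -/

open Cfsg.Agent.MonsterX Cfsg.Agent.MonsterX.InstData Cfsg.Agent.MonsterX.MainPack
open Cfsg.Agent.MonsterP Cfsg.Agent.MonsterN
open Cfsg.Agent.MonsterX.MainBasic Cfsg.Agent.MonsterX.MainSimple Cfsg.Agent.MonsterX.Model

/-- the centralizer of a `2A`-involution -/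
theorem fullP_of_cover {p : ℕ} [Fact p.Prime] (hp : p ≠ 2) {H K : Type*} [Group H] [Group K] [Finite H]
    (h2 : Nat.card (Subgroup.center H) = 2) (e : H ⧸ Subgroup.center H ≃* K) (hK : FullP p K) : FullP p H := by
  have : Finite (H ⧸ Subgroup.center H) := Quotient.finite _
  refine H792.SpTool.fullP_of_surjective_pprime (QuotientGroup.mk' (Subgroup.center H))
    (QuotientGroup.mk'_surjective _) ?_ (hK.of_mulEquiv e.symm)
  rw [QuotientGroup.ker_mk', h2]
  intro h
  exact hp ((Nat.prime_dvd_prime_iff_eq Fact.out Nat.prime_two).1 h)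

theorem fullP_model (hCo : FullP 3 Co1) (hB : FullP 3 Spor.BabyMonster) : FullP 3 ↥InstData.M.G := by
  have := Row.finite_model
  have := Row.simple_model
  obtain ⟨⟨h1, -, ⟨e⟩⟩, -⟩ := ModelB.fieldsKS LitFin.all KDone.lnk KDone.lft (NodesGrp.prel LitFin.H)
    (NodesNe.ne LitFin.H) LitFin.conj_ten Cfsg.Agent.S1704.result KDone.lnk.x₀_mem
  obtain ⟨A, B, F⟩ := LThreeM.SigRow.facts_model
  refine fullP_of_chart (KChart.chart KDone.lft Row.cent) CoOneFin.coOne LThreeCo1.Ranks.zero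
    (KPair.trNe KDone.lft Row.cent (LThreeMBTr.traceNe KDone.lft LThreeMBTr.TensK.tens))
    (KPair.hasPair KDone.lft Row.cent Row.second COct.octPair) ?_ (t := KDone.K.ι KLinkInst.x₀) ?_ ?_ hCo
    (fullP_of_cover (by norm_num) h1 e hB)
  · rintro x hx ⟨v, hv, hv1, hc⟩
    exact LThreeM.FiRow.exists_z_of_comm (by rw [← hx, pow_orderOf_eq_one]) hv hv1 hc.symm
  · intro u huu hu1
    rcases MFive.Row.two u huu hu1 with h | ⟨g, hg⟩
    · exact Or.inl h
    · right
      obtain ⟨k, hk⟩ := ModelB.exists_conj_t KDone.mGroup KDone.mRep KDone.lnk KDone.lft KDone.lnk.x₀_mem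
      refine ⟨g * k⁻¹, ?_⟩
      rw [← hk, ← hg]
      group
  · rw [F.card]
    norm_num

/-- **The Monster, `p = 3`** -/
theorem fullP_m_three' {G : Type*} [Group G] (h : Cfsg.Spor.IsoM G) (hCo : FullP 3 Co1)
    (hB : FullP 3 Spor.BabyMonster) : FullP 3 G := by
  obtain ⟨e⟩ := h
  obtain ⟨f⟩ := Cfsg.Agent.MonsterP.Equiv.equiv
  exact (fullP_model hCo hB).of_mulEquiv (e.trans f).symm

end Cfsg.Agent.H411.MThree
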