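import Mathlib
import Cfsg.Agent.H411.JordanSets
import Cfsg.Agent.H411.SteinerCount
import Cfsg.Agent.S0711

/-!
# A primitive group with a Jordan set of size less than half the degree contains the alternating group
-/

set_option autoImplicit false

namespace Cfsg.Agent.H411.JordanPrim

open MulAction Cfsg.Agent.H411.JordanSets
open scoped Pointwise

variable {G Ω : Type*} [Group G] [MulAction G Ω] [Fintype Ω] [DecidableEq Ω]

theorem range_multiplyPretransitive {k : ℕ} (h : IsMultiplyPretransitive G Ω k) :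
    IsMultiplyPretransitive (MulAction.toPermHom G Ω).range Ω k := by
  refine ⟨fun x y => ?_⟩
  obtain ⟨g, hg⟩ := h.exists_smul_eq x y
  refine ⟨⟨MulAction.toPermHom G Ω g, g, rfl⟩, ?_⟩
  rw [← hg]
  rfl

/-- the bound coming from Jordan's theorem S0711 -/
theorem card_ge {k : ℕ} (hk : 2 ≤ k) (hkn : k ≤ Fintype.card Ω)
    (h : IsMultiplyPretransitive G Ω k) (hA : ¬ alternatingGroup Ω ≤ (MulAction.toPermHom G Ω).range)
    (Γ : Finset Ω) (hΓ : 2 ≤ Γ.card) (hJ : IsJ G (Γ : Set Ω)) : 2 * k - 2 ≤ Γ.card := by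
  rcases Nat.lt_or_ge k 3 with h3 | h3
  · omega
  by_contra hlt
  push Not at hlt
  obtain ⟨a, ha, b, hb, hab⟩ := Finset.one_lt_card.mp hΓ
  obtain ⟨g, hg, hgab⟩ := hJ a (by simpa using ha) b (by simpa using hb)
  apply hA
  refine (Cfsg.Agent.S0711.result (MulAction.toPermHom G Ω).range h3 hkn
    (range_multiplyPretransitive h) (MulAction.toPermHom G Ω g) ⟨g, rfl⟩ ?_ ?_).2
  · intro h1
    have : (MulAction.toPermHom G Ω g) a = a := by rw [h1]; rfl
    rw [MulAction.toPermHom_apply, MulAction.toPerm_apply, hgab] at this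
    exact hab this.symm
  · refine lt_of_le_of_lt (Finset.card_le_card ?_) hlt
    intro x hx
    rw [Equiv.Perm.mem_support, MulAction.toPermHom_apply, MulAction.toPerm_apply] at hx
    by_contra hxΓ
    exact hx (hg x (by simpa using hxΓ))

/-- moving `k`-sets -/
theorem exists_move {k : ℕ} (h : IsMultiplyPretransitive G Ω k) (R R' : Finset Ω)
    (hR : R.card = k) (hR' : R'.card = k) : ∃ g : G, g • R = R' := by
  let e : Fin k ↪ Ω := (R.equivFinOfCardEq hR).symm.toEmbedding.trans (Function.Embedding.subtype _)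
  let e' : Fin k ↪ Ω := (R'.equivFinOfCardEq hR').symm.toEmbedding.trans (Function.Embedding.subtype _)
  obtain ⟨g, hg⟩ := h.exists_smul_eq e e'
  refine ⟨g, ?_⟩
  apply Finset.eq_of_subset_of_card_le
  · intro x hx
    rw [Finset.mem_smul_finset] at hx
    obtain ⟨y, hy, rfl⟩ := hx
    have h1 : e (R.equivFinOfCardEq hR ⟨y, hy⟩) = y := by
      simp [e]
    have h2 : g • e (R.equivFinOfCardEq hR ⟨y, hy⟩) = e' (R.equivFinOfCardEq hR ⟨y, hy⟩) := by
      rw [← hg]; rfl
    rw [h1] at h2
    rw [h2]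
    simp [e']
  · rw [Finset.card_smul_finset, hR, hR']

/-- extension of transitivity -/
theorem multiplyPretransitive_succ {k : ℕ} (h : IsMultiplyPretransitive G Ω k) (F : Finset Ω)
    (hF : F.card = k) (hJ : IsJ G ((Fᶜ : Finset Ω) : Set Ω)) :
    IsMultiplyPretransitive G Ω (k + 1) := by
  let e : Fin k ↪ Ω := (F.equivFinOfCardEq hF).symm.toEmbedding.trans (Function.Embedding.subtype _)
  have he : ∀ y ∈ F, ∃ i, e i = y := fun y hy => ⟨F.equivFinOfCardEq hF ⟨y, hy⟩, by simp [e]⟩
  have key : ∀ x : Fin (k + 1) ↪ Ω, ∃ g : G, (∀ i : Fin k, g • x i.castSucc = e i) ∧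
      g • x (Fin.last k) ∉ F := by
    intro x
    obtain ⟨g, hg⟩ := h.exists_smul_eq ((Fin.castSuccEmb).trans x) e
    have h1 : ∀ i : Fin k, g • x i.castSucc = e i := fun i => by rw [← hg]; rfl
    refine ⟨g, h1, fun hx => ?_⟩
    obtain ⟨i, hi⟩ := he _ hx
    rw [← h1 i] at hi
    have := x.injective (smul_left_cancel g hi)
    exact absurd this (Fin.castSucc_lt_last i).ne
  refine ⟨fun x y => ?_⟩
  obtain ⟨g₁, h1, h1'⟩ := key x
  obtain ⟨g₂, h2, h2'⟩ := key y
  obtain ⟨g, hg, hgx⟩ := hJ (g₁ • x (Fin.last k)) (by simpa using h1') (g₂ • y (Fin.last k))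
    (by simpa using h2')
  refine ⟨g₂⁻¹ * g * g₁, ?_⟩
  ext i
  change (g₂⁻¹ * g * g₁) • x i = y i
  rw [mul_smul, mul_smul, inv_smul_eq_iff]
  induction i using Fin.lastCases with
  | last => exact hgx
  | cast i =>
    rw [h1, h2]
    apply hg
    simp [e]

/-- **Marggraff's theorem for Jordan sets.** A primitive group with a Jordan set `Γ`,
`2 ≤ |Γ| < n/2`, induces the alternating group. -/
theorem alternating_le_of_isJ (hprim : IsPreprimitive G Ω) (Γ : Finset Ω) (hΓ : 2 ≤ Γ.card)
    (h2 : 2 * Γ.card < Fintype.card Ω) (hJ : IsJ G (Γ : Set Ω)) :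
    alternatingGroup Ω ≤ (MulAction.toPermHom G Ω).range := by
  classical
  by_contra hA
  have hcc : Γ.card + (Γᶜ).card = Fintype.card Ω := Finset.card_add_card_compl Γ
  -- 2-transitivity
  have h2t : IsMultiplyPretransitive G Ω 2 := by
    obtain ⟨n, hn⟩ : ∃ n, (Γᶜ).card = n + 1 := ⟨(Γᶜ).card - 1, by omega⟩
    refine hprim.is_two_pretransitive (s := ((Γ : Set Ω))ᶜ) (n := n) ?_ ?_ ?_
    · rw [← Finset.coe_compl, Set.ncard_coe_finset, hn]
    · rw [Nat.card_eq_fintype_card]; omega
    · exact isPretransitive_of_isJ hJ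
  -- the largest transitivity
  set k := Nat.findGreatest (fun k => IsMultiplyPretransitive G Ω k) (Fintype.card Ω) with hkdef
  have hk2 : 2 ≤ k := Nat.le_findGreatest (P := fun k => IsMultiplyPretransitive G Ω k)
    (by omega) h2t
  have hkt : IsMultiplyPretransitive G Ω k :=
    Nat.findGreatest_spec (P := fun k => IsMultiplyPretransitive G Ω k) (m := 2) (by omega) h2t
  have hkn : k ≤ Fintype.card Ω := Nat.findGreatest_le _
  have hkΓ : 2 * k - 2 ≤ Γ.card := card_ge hk2 hkn hkt hA Γ hΓ hJ
  have hkmax : ¬ IsMultiplyPretransitive G Ω (k + 1) :=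
    Nat.findGreatest_is_greatest (P := fun k => IsMultiplyPretransitive G Ω k)
      (n := Fintype.card Ω) (Nat.lt_succ_self _) (by omega)
  -- the largest Jordan set missing at least `k` points
  obtain ⟨J₀, hJ₀m, hJ₀max⟩ := Finset.exists_max_image
    (Finset.univ.filter fun J : Finset Ω => IsJ G (J : Set Ω) ∧ 2 ≤ J.card ∧ k ≤ (Jᶜ).card)
    Finset.card ⟨Γ, by simp only [Finset.mem_filter, Finset.mem_univ, true_and]
                       exact ⟨hJ, hΓ, by omega⟩⟩
  simp only [Finset.mem_filter, Finset.mem_univ, true_and] at hJ₀m hJ₀max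
  obtain ⟨hJ₀, hJ₀2, hJ₀k⟩ := hJ₀m
  have hcJ : J₀.card + (J₀ᶜ).card = Fintype.card Ω := Finset.card_add_card_compl J₀
  -- translates
  have htr : ∀ g : G, IsJ G ((g • J₀ : Finset Ω) : Set Ω) := fun g => by
    rw [Finset.coe_smul_finset]; exact hJ₀.smul g
  -- union of overlapping Jordan sets missing at least `k` points
  have hun : ∀ A B : Finset Ω, IsJ G (A : Set Ω) → IsJ G (B : Set Ω) → (A ∩ B).Nonempty →
      2 ≤ A.card → k ≤ ((A ∪ B)ᶜ).card → (A ∪ B).card ≤ J₀.card := by
    intro A B hA' hB hAB hA2 hk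
    apply hJ₀max
    refine ⟨?_, hA2.trans (Finset.card_le_card Finset.subset_union_left), hk⟩
    rw [Finset.coe_union]
    refine hA'.union hB ?_
    rw [← Finset.coe_inter]
    exact_mod_cast hAB
  -- an overlapping translate
  have hbig : Fintype.card Ω + 2 ≤ 2 * J₀.card + k := by
    have hnb : ¬ IsBlock G (J₀ : Set Ω) := by
      intro hb
      rcases hprim.isTrivialBlock_of_isBlock hb with h | h
      · have h1 : J₀.card ≤ 1 := Finset.card_le_one.mpr fun a ha b hb => h (by simpa using ha) (by simpa using hb)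
        omega
      · have h1 : J₀ = Finset.univ := by
          rw [← Finset.coe_univ] at h
          exact_mod_cast h
        rw [h1, Finset.compl_univ, Finset.card_empty] at hJ₀k
        omega
    rw [isBlock_iff_smul_eq_or_disjoint] at hnb
    push Not at hnb
    obtain ⟨g, hg1, hg2⟩ := hnb
    have hne : g • J₀ ≠ J₀ := fun h => hg1 (by rw [← Finset.coe_smul_finset, h])
    have hint : (J₀ ∩ g • J₀).Nonempty := by
      rw [← Finset.coe_smul_finset, Finset.disjoint_coe, Finset.disjoint_iff_inter_eq_empty] at hg2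
      rw [Finset.inter_comm]
      exact Finset.nonempty_iff_ne_empty.mpr hg2
    have hlt : J₀.card < (J₀ ∪ g • J₀).card := by
      apply Finset.card_lt_card
      refine Finset.ssubset_iff_subset_ne.mpr ⟨Finset.subset_union_left, fun h => hne ?_⟩
      have h' : g • J₀ ⊆ J₀ := by
        calc g • J₀ ⊆ J₀ ∪ g • J₀ := Finset.subset_union_right
          _ = J₀ := h.symm
      exact Finset.eq_of_subset_of_card_le h' (by rw [Finset.card_smul_finset])
    have hnk : ¬ k ≤ ((J₀ ∪ g • J₀)ᶜ).card := fun hk => by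
      have := hun J₀ (g • J₀) hJ₀ (htr g) hint hJ₀2 hk
      omega
    have h3 := Finset.card_union_add_card_inter J₀ (g • J₀)
    rw [Finset.card_smul_finset] at h3
    have h4 : (J₀ ∪ g • J₀).card + ((J₀ ∪ g • J₀)ᶜ).card = Fintype.card Ω :=
      Finset.card_add_card_compl _
    have h5 := Finset.card_pos.mpr hint
    omega
  -- the size of the flats
  have hf : k + 1 ≤ (J₀ᶜ).card := by
    rcases Nat.lt_or_ge k (J₀ᶜ).card with h | h
    · exact h
    · exfalso
      apply hkmax
      refine multiplyPretransitive_succ hkt (J₀ᶜ) (le_antisymm h hJ₀k) ?_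
      rw [compl_compl]
      exact hJ₀
  -- two translates with large common complement are equal
  have huniq' : ∀ g g' : G, k ≤ ((g • J₀ ∪ g' • J₀)ᶜ).card → g • J₀ = g' • J₀ := by
    intro g g' hk
    by_contra hne
    by_cases hint : (g • J₀ ∩ g' • J₀).Nonempty
    · have h3 := hun _ _ (htr g) (htr g') hint (by rw [Finset.card_smul_finset]; exact hJ₀2) hk
      apply hne
      have h4 : g • J₀ = g • J₀ ∪ g' • J₀ := by
        apply Finset.eq_of_subset_of_card_le Finset.subset_union_left
        rw [Finset.card_smul_finset]; exact h3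
      have h5 : g' • J₀ ⊆ g • J₀ := by
        calc g' • J₀ ⊆ g • J₀ ∪ g' • J₀ := Finset.subset_union_right
          _ = g • J₀ := h4.symm
      exact (Finset.eq_of_subset_of_card_le h5 (by
        rw [Finset.card_smul_finset, Finset.card_smul_finset])).symm
    · rw [Finset.not_nonempty_iff_eq_empty] at hint
      have h3 := Finset.card_union_add_card_inter (g • J₀) (g' • J₀)
      rw [hint, Finset.card_empty, Finset.card_smul_finset, Finset.card_smul_finset] at h3
      have h4 : (g • J₀ ∪ g' • J₀).card + ((g • J₀ ∪ g' • J₀)ᶜ).card = Fintype.card Ω :=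
        Finset.card_add_card_compl _
      omega
  -- the Steiner system
  set 𝓟 : Finset (Finset Ω) := Finset.univ.filter fun P => ∃ g : G, P = (g • J₀)ᶜ with h𝓟def
  have hmem : ∀ P, P ∈ 𝓟 ↔ ∃ g : G, P = (g • J₀)ᶜ := fun P => by simp [h𝓟def]
  have h𝓟c : ∀ P ∈ 𝓟, P.card = (J₀ᶜ).card := by
    intro P hP
    obtain ⟨g, rfl⟩ := (hmem P).mp hP
    rw [Finset.card_compl, Finset.card_smul_finset, Finset.card_compl]
  have hex : ∀ R : Finset Ω, R.card = k → ∃ P ∈ 𝓟, R ⊆ P := by
    intro R hR
    obtain ⟨F', hF', hF'c⟩ := Finset.exists_subset_card_eq (s := J₀ᶜ) (n := k) hJ₀k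
    obtain ⟨g, hg⟩ := exists_move hkt F' R hF'c hR
    refine ⟨(g • J₀)ᶜ, (hmem _).mpr ⟨g, rfl⟩, ?_⟩
    intro x hx
    rw [← hg, Finset.mem_smul_finset] at hx
    obtain ⟨y, hy, rfl⟩ := hx
    have := hF' hy
    rw [Finset.mem_compl] at this ⊢
    rwa [Finset.smul_mem_smul_finset_iff]
  have huniq : ∀ R : Finset Ω, R.card = k → ∀ P ∈ 𝓟, ∀ P' ∈ 𝓟, R ⊆ P → R ⊆ P' → P = P' := by
    intro R hR P hP P' hP' hRP hRP'
    obtain ⟨g, rfl⟩ := (hmem P).mp hP
    obtain ⟨g', rfl⟩ := (hmem P').mp hP'
    rw [huniq' g g']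
    rw [← hR, Finset.compl_union]
    exact Finset.card_le_card (Finset.subset_inter hRP hRP')
  have huniqge : ∀ R : Finset Ω, k ≤ R.card → ∀ P ∈ 𝓟, ∀ P' ∈ 𝓟, R ⊆ P → R ⊆ P' → P = P' := by
    intro R hR P hP P' hP' hRP hRP'
    obtain ⟨R', hR', hR'c⟩ := Finset.exists_subset_card_eq hR
    exact huniq R' hR'c P hP P' hP' (hR'.trans hRP) (hR'.trans hRP')
  have hsmul : ∀ (g : G) P, P ∈ 𝓟 → g • P ∈ 𝓟 := by
    intro g P hP
    obtain ⟨g', rfl⟩ := (hmem P).mp hP
    rw [hmem]
    refine ⟨g * g', ?_⟩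
    ext x
    rw [← Finset.inv_smul_mem_iff, Finset.mem_compl, Finset.mem_compl, mul_smul,
      ← Finset.inv_smul_mem_iff (a := g)]
  have hsub : ∀ P ∈ 𝓟, k ≤ (P ∩ Γᶜ).card → P ⊆ Γᶜ := by
    intro P hP hPk
    obtain ⟨g, hPg⟩ := (hmem P).mp hP
    by_cases hint : (g • J₀ ∩ Γ).Nonempty
    · have h3 := hun (g • J₀) Γ (htr g) hJ hint (by rw [Finset.card_smul_finset]; exact hJ₀2)
        (by rw [Finset.compl_union, ← hPg]; exact hPk)
      have h4 : g • J₀ = g • J₀ ∪ Γ := by
        apply Finset.eq_of_subset_of_card_le Finset.subset_union_left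
        rw [Finset.card_smul_finset]; exact h3
      rw [hPg, Finset.compl_subset_compl, h4]
      exact Finset.subset_union_right
    · exfalso
      rw [Finset.not_nonempty_iff_eq_empty] at hint
      have hΓP : Γ ⊆ P := by
        intro x hx
        rw [hPg, Finset.mem_compl]
        intro hx'
        have : x ∈ g • J₀ ∩ Γ := Finset.mem_inter.mpr ⟨hx', hx⟩
        rw [hint] at this
        exact absurd this (Finset.notMem_empty x)
      have hδ : ∃ δ, δ ∉ P := by
        by_contra hall
        push Not at hall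
        have h3 : P = Finset.univ := Finset.eq_univ_iff_forall.mpr hall
        have h4 := h𝓟c P hP
        rw [h3, Finset.card_univ] at h4
        omega
      obtain ⟨δ, hδP⟩ := hδ
      have hδΓ : δ ∉ Γ := fun h => hδP (hΓP h)
      obtain ⟨R', hR', hR'c⟩ := Finset.exists_subset_card_eq (s := P ∩ Γᶜ) (n := k - 2) (by omega)
      obtain ⟨γ, hγ, γ₁, hγ₁, hne⟩ := Finset.one_lt_card.mp hΓ
      have hR'Γ : ∀ x ∈ R', x ∉ Γ := fun x hx => by
        have := hR' hx
        rw [Finset.mem_inter, Finset.mem_compl] at this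
        exact this.2
      have hR'P : ∀ x ∈ R', x ∈ P := fun x hx => (Finset.mem_inter.mp (hR' hx)).1
      have hδR' : δ ∉ R' := fun h => hδP (hR'P δ h)
      have hcard : (insert γ (insert δ R')).card = k := by
        rw [Finset.card_insert_of_notMem, Finset.card_insert_of_notMem hδR', hR'c]
        · omega
        · rw [Finset.mem_insert, not_or]
          exact ⟨fun h => hδΓ (h ▸ hγ), fun h => hR'Γ γ h hγ⟩
      obtain ⟨P', hP', hRP'⟩ := hex _ hcard
      have hγP' : γ ∈ P' := hRP' (Finset.mem_insert_self _ _)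
      have hδP' : δ ∈ P' := hRP' (Finset.mem_insert_of_mem (Finset.mem_insert_self _ _))
      have hR'P' : R' ⊆ P' := fun x hx =>
        hRP' (Finset.mem_insert_of_mem (Finset.mem_insert_of_mem hx))
      -- a second point of `Γ`
      have hsec : ∃ γ' ∈ P', γ' ∈ Γ ∧ γ' ≠ γ := by
        by_contra hno
        push Not at hno
        have h3 : P' \ {γ} ⊆ Γᶜ := by
          intro x hx
          rw [Finset.mem_sdiff, Finset.mem_singleton] at hx
          rw [Finset.mem_compl]
          exact fun hxΓ => hx.2 (hno x hx.1 hxΓ)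
        have h4 : (P' \ {γ}).card + 1 = (J₀ᶜ).card := by
          rw [Finset.card_sdiff_of_subset (Finset.singleton_subset_iff.mpr hγP'),
            Finset.card_singleton, h𝓟c P' hP']
          omega
        obtain ⟨κ, hκ, hκγ⟩ := hJ γ (by simpa using hγ) γ₁ (by simpa using hγ₁)
        have h5 : P' = κ • P' := by
          apply huniqge (P' \ {γ}) (by omega) P' hP' _ (hsmul κ P' hP') Finset.sdiff_subset
          intro x hx
          have hxΓ := h3 hx
          rw [Finset.mem_compl] at hxΓ
          have h6 := hκ x (by simpa using hxΓ)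
          rw [← h6]
          exact Finset.smul_mem_smul_finset (Finset.sdiff_subset hx)
        have h6 : γ₁ ∈ P' := by
          rw [h5, ← hκγ]
          exact Finset.smul_mem_smul_finset hγP'
        exact hne (hno γ₁ h6 hγ₁).symm
      obtain ⟨γ', hγ'P', hγ'Γ, hγ'γ⟩ := hsec
      have hcard2 : (insert γ (insert γ' R')).card = k := by
        rw [Finset.card_insert_of_notMem, Finset.card_insert_of_notMem, hR'c]
        · omega
        · exact fun h => hR'Γ γ' h hγ'Γ
        · rw [Finset.mem_insert, not_or]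
          exact ⟨hγ'γ.symm, fun h => hR'Γ γ h hγ⟩
      have h7 : P = P' := by
        apply huniq _ hcard2 P hP P' hP'
        · intro x hx
          rcases Finset.mem_insert.mp hx with rfl | hx
          · exact hΓP hγ
          · rcases Finset.mem_insert.mp hx with rfl | hx
            · exact hΓP hγ'Γ
            · exact hR'P x hx
        · intro x hx
          rcases Finset.mem_insert.mp hx with rfl | hx
          · exact hγP'
          · rcases Finset.mem_insert.mp hx with rfl | hx
            · exact hγ'P'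
            · exact hR'P' hx
      exact hδP (h7 ▸ hδP')
  exact SteinerCount.steiner_main (Γᶜ) k (J₀ᶜ).card hk2 hf 𝓟 h𝓟c hex huniq hsub
    (by rw [compl_compl]; exact hkΓ) (by rw [compl_compl]; omega)

end Cfsg.Agent.H411.JordanPrim
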