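import Mathlib
import Cfsg.Agent.H411.JordanPrim

/-!
# A quasiprimitive group with a Jordan set of size less than half the degree is primitive
-/

set_option autoImplicit false

namespace Cfsg.Agent.H411.JordanQuasi

open MulAction Cfsg.Agent.H411.JordanSets Equiv.Perm
open scoped Pointwise

section three

variable {S : Type*} [Fintype S] [DecidableEq S]

/-- An even permutation fixing `a` and moving the rest of `Γ` outside `Γ`. -/
theorem exists_alt (Γ : Finset S) (h2 : 2 * Γ.card < Fintype.card S) (hΓ : 2 ≤ Γ.card) (a : S)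
    (ha : a ∈ Γ) : ∃ u : Equiv.Perm S, u ∈ alternatingGroup S ∧ u a = a ∧
      ∀ c ∈ Γ, c ≠ a → u c ∉ Γ := by
  have hcc : Γ.card + (Γᶜ).card = Fintype.card S := Finset.card_add_card_compl Γ
  obtain ⟨ν, hν⟩ : ∃ ν, Γ.card = ν + 1 := ⟨Γ.card - 1, by omega⟩
  have h1 : (Γ.erase a).card = ν := by rw [Finset.card_erase_of_mem ha, hν]; rfl
  obtain ⟨T, hT, hTc⟩ := Finset.exists_subset_card_eq (s := Γᶜ) (n := ν) (by omega)
  let e₁ : Fin ν ↪ S := ((Γ.erase a).equivFinOfCardEq h1).symm.toEmbedding.trans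
    (Function.Embedding.subtype _)
  let e₂ : Fin ν ↪ S := (T.equivFinOfCardEq hTc).symm.toEmbedding.trans
    (Function.Embedding.subtype _)
  have he₁ : ∀ i, e₁ i ∈ Γ.erase a := fun i => by simp [e₁, -Finset.mem_erase]
  have he₂ : ∀ i, e₂ i ∈ T := fun i => by simp [e₂]
  have hmt := alternatingGroup.isMultiplyPretransitive S
  have hmt' : IsMultiplyPretransitive (alternatingGroup S) S (ν + 1) :=
    isMultiplyPretransitive_of_le (n := Nat.card S - 2)
      (by rw [Nat.card_eq_fintype_card]; omega) (Nat.sub_le _ _)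
  let f₁ : Fin (ν + 1) ↪ S := ⟨Fin.cons a e₁, Fin.cons_injective_iff.mpr ⟨by
    rintro ⟨i, hi⟩
    have := he₁ i
    rw [hi] at this
    exact absurd rfl (Finset.mem_erase.mp this).1, e₁.injective⟩⟩
  let f₂ : Fin (ν + 1) ↪ S := ⟨Fin.cons a e₂, Fin.cons_injective_iff.mpr ⟨by
    rintro ⟨i, hi⟩
    have := hT (he₂ i)
    rw [hi, Finset.mem_compl] at this
    exact this ha, e₂.injective⟩⟩
  obtain ⟨⟨u, hu⟩, hu'⟩ := hmt'.exists_smul_eq f₁ f₂
  refine ⟨u, hu, ?_, ?_⟩
  · have := DFunLike.congr_fun hu' 0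
    exact this
  · intro c hc hca
    have hc' : c ∈ Γ.erase a := Finset.mem_erase.mpr ⟨hca, hc⟩
    set i := (Γ.erase a).equivFinOfCardEq h1 ⟨c, hc'⟩ with hi
    have h3 : e₁ i = c := by simp [e₁, hi]
    have h4 := DFunLike.congr_fun hu' i.succ
    have h5 : f₁ i.succ = c := by
      change Fin.cons (α := fun _ => S) a e₁ i.succ = c
      rw [Fin.cons_succ, h3]
    have h6 : f₂ i.succ = e₂ i := by
      change Fin.cons (α := fun _ => S) a e₂ i.succ = _
      rw [Fin.cons_succ]
    have h7 : u (f₁ i.succ) = f₂ i.succ := h4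
    rw [h5, h6] at h7
    rw [h7, ← Finset.mem_compl]
    exact hT (he₂ i)

end three

section cover

variable {G Ω S : Type*} [Group G] [MulAction G Ω] [MulAction G S] [Fintype S] [DecidableEq S]

/-- Existence of an element inducing a 3-cycle downstairs and fixing all the points above the fixed
points of that 3-cycle. -/
theorem exists_three (π : Ω → S) (hπ : ∀ (g : G) ω, π (g • ω) = g • π ω)
    (hA : alternatingGroup S ≤ (MulAction.toPermHom G S).range)
    (Γ : Finset S) (h2 : 2 * Γ.card < Fintype.card S) (hΓ : 2 ≤ Γ.card)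
    (x : G) (hx : ∀ ω, π ω ∉ Γ → x • ω = ω) (hx' : ∀ s, s ∉ Γ → x • s = s)
    (a : S) (ha : x • a ≠ a) :
    ∃ c : G, IsThreeCycle (MulAction.toPermHom G S c) ∧
      ∀ ω, MulAction.toPermHom G S c (π ω) = π ω → c • ω = ω := by
  have haΓ : a ∈ Γ := by
    by_contra h
    exact ha (hx' a h)
  obtain ⟨u, hu, hua, hu'⟩ := exists_alt Γ h2 hΓ a haΓ
  obtain ⟨h, rfl⟩ := hA hu
  simp only [MulAction.toPermHom_apply, MulAction.toPerm_apply] at hua hu'
  -- the elements preserve the sets
  have hxΓ : ∀ s, s ∈ Γ → x • s ∈ Γ := by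
    intro s hs
    by_contra hns
    have h1 := hx' _ hns
    exact hns ((smul_left_cancel x h1).symm ▸ hs)
  have hxi' : ∀ s, s ∉ Γ → x⁻¹ • s = s := fun s hs => by rw [inv_smul_eq_iff, hx' s hs]
  have hxi : ∀ ω, π ω ∉ Γ → x⁻¹ • ω = ω := fun s hs => by rw [inv_smul_eq_iff, hx s hs]
  have hxiΓ : ∀ s, s ∈ Γ → x⁻¹ • s ∈ Γ := by
    intro s hs
    by_contra hns
    have h1 := hx' _ hns
    rw [smul_inv_smul] at h1
    exact hns (h1 ▸ hs)
  set y := h * x * h⁻¹ with hy
  -- the second Jordan set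
  have hin : ∀ s, s ∈ Γ → h⁻¹ • s ∈ Γ → s = a := by
    intro s hs hs'
    by_contra hne
    have h1 : h⁻¹ • s ≠ a := fun h' => hne (by rw [← hua, ← h', smul_inv_smul])
    have h2 := hu' _ hs' h1
    rw [smul_inv_smul] at h2
    exact h2 hs
  have hyS : ∀ s, h⁻¹ • s ∉ Γ → y • s = s := fun s hs => by
    rw [hy, mul_smul, mul_smul, hx' _ hs, smul_inv_smul]
  have hyiS : ∀ s, h⁻¹ • s ∉ Γ → y⁻¹ • s = s := fun s hs => by
    rw [inv_smul_eq_iff, hyS s hs]
  have hyΩ : ∀ ω, h⁻¹ • π ω ∉ Γ → y • ω = ω := fun ω hs => by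
    rw [hy, mul_smul, mul_smul, hx _ (by rwa [hπ]), smul_inv_smul]
  have hyiΩ : ∀ ω, h⁻¹ • π ω ∉ Γ → y⁻¹ • ω = ω := fun ω hs => by
    rw [inv_smul_eq_iff, hyΩ ω hs]
  have hyim : ∀ s, h⁻¹ • s ∈ Γ → h⁻¹ • (y⁻¹ • s) ∈ Γ := by
    intro s hs
    have : h⁻¹ • (y⁻¹ • s) = x⁻¹ • (h⁻¹ • s) := by
      rw [hy, ← mul_smul, ← mul_smul]
      congr 1
      group
    rw [this]
    exact hxiΓ _ hs
  have hya : y • a ≠ a := by
    intro h1
    apply ha
    rw [hy, mul_smul, mul_smul, inv_smul_eq_iff.mpr hua.symm] at h1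
    have h3 : h • (x • a) = h • a := by rw [h1, hua]
    exact smul_left_cancel h h3
  have hhia : h⁻¹ • a = a := inv_smul_eq_iff.mpr hua.symm
  -- location of the three points
  have hxa : x • a ∈ Γ := hxΓ a haΓ
  have hxan : h⁻¹ • (x • a) ∉ Γ := fun h1 => ha (hin _ hxa h1)
  have hyaΓ : h⁻¹ • (y • a) ∈ Γ := by
    rw [hy, mul_smul, mul_smul, inv_smul_smul, hhia]
    exact hxa
  have hyan : y • a ∉ Γ := fun h1 => hya (hin _ h1 hyaΓ)
  set c := x * y * x⁻¹ * y⁻¹ with hc
  have hcΩ : ∀ ω, π ω ≠ a → π ω ≠ x • a → π ω ≠ y • a → c • ω = ω := by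
    intro ω h1 h2 h3
    have hcw : c • ω = x • (y • (x⁻¹ • (y⁻¹ • ω))) := by
      rw [hc, mul_smul, mul_smul, mul_smul]
    rw [hcw]
    by_cases hω : h⁻¹ • π ω ∈ Γ
    · have hωΓ : π ω ∉ Γ := fun h' => h1 (hin _ h' hω)
      have h4 : π (y⁻¹ • ω) ∉ Γ := by
        rw [hπ]
        intro h'
        have h5 := hin _ h' (hyim _ hω)
        exact h3 (by rw [← h5, smul_inv_smul])
      rw [hxi _ h4, smul_inv_smul, hx _ hωΓ]
    · rw [hyiΩ _ hω]
      have h4 : h⁻¹ • π (x⁻¹ • ω) ∉ Γ := by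
        rw [hπ]
        by_cases hωΓ : π ω ∈ Γ
        · intro h'
          have h5 := hin _ (hxiΓ _ hωΓ) h'
          exact h2 (by rw [← h5, smul_inv_smul])
        · rw [hxi' _ hωΓ]
          exact hω
      rw [hyΩ _ h4, smul_inv_smul]
  have hcS : ∀ s, s ≠ a → s ≠ x • a → s ≠ y • a → c • s = s := by
    intro s h1 h2 h3
    have hcw : c • s = x • (y • (x⁻¹ • (y⁻¹ • s))) := by
      rw [hc, mul_smul, mul_smul, mul_smul]
    rw [hcw]
    by_cases hω : h⁻¹ • s ∈ Γ
    · have hωΓ : s ∉ Γ := fun h' => h1 (hin _ h' hω)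
      have h4 : y⁻¹ • s ∉ Γ := by
        intro h'
        have h5 := hin _ h' (hyim _ hω)
        exact h3 (by rw [← h5, smul_inv_smul])
      rw [hxi' _ h4, smul_inv_smul, hx' _ hωΓ]
    · rw [hyiS _ hω]
      have h4 : h⁻¹ • (x⁻¹ • s) ∉ Γ := by
        by_cases hωΓ : s ∈ Γ
        · intro h'
          have h5 := hin _ (hxiΓ _ hωΓ) h'
          exact h2 (by rw [← h5, smul_inv_smul])
        · rw [hxi' _ hωΓ]
          exact hω
      rw [hyS _ h4, smul_inv_smul]
  -- the action on the three points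
  have hc1 : c • (x • a) = y • a := by
    have hcw : c • (x • a) = x • (y • (x⁻¹ • (y⁻¹ • (x • a)))) := by
      rw [hc, mul_smul, mul_smul, mul_smul]
    rw [hcw, hyiS _ hxan, inv_smul_smul, hx' _ hyan]
  have hc2 : c • (y • a) = a := by
    have hcw : c • (y • a) = x • (y • (x⁻¹ • (y⁻¹ • (y • a)))) := by
      rw [hc, mul_smul, mul_smul, mul_smul]
    rw [hcw, inv_smul_smul]
    have h4 : h⁻¹ • (x⁻¹ • a) ∉ Γ := by
      intro h'
      have h5 := hin _ (hxiΓ _ haΓ) h'
      rw [inv_smul_eq_iff] at h5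
      exact ha h5.symm
    rw [hyS _ h4, smul_inv_smul]
  have hc3 : c • a = x • a := by
    have hcw : c • a = x • (y • (x⁻¹ • (y⁻¹ • a))) := by
      rw [hc, mul_smul, mul_smul, mul_smul]
    have h4 : y⁻¹ • a ∉ Γ := by
      intro h'
      have h5 := hin _ h' (hyim _ (by rw [hhia]; exact haΓ))
      rw [inv_smul_eq_iff] at h5
      exact hya h5.symm
    rw [hcw, hxi' _ h4, smul_inv_smul]
  have hxy : x • a ≠ y • a := fun h' => hyan (h' ▸ hxa)
  refine ⟨c, ?_, ?_⟩
  · rw [← card_support_eq_three_iff]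
    have hs : (MulAction.toPermHom G S c).support = {a, x • a, y • a} := by
      ext s
      rw [mem_support, MulAction.toPermHom_apply, MulAction.toPerm_apply]
      simp only [Finset.mem_insert, Finset.mem_singleton]
      constructor
      · intro h1
        by_contra h2
        push Not at h2
        exact h1 (hcS s h2.1 h2.2.1 h2.2.2)
      · rintro (rfl | rfl | rfl)
        · rw [hc3]; exact ha
        · rw [hc1]; exact hxy.symm
        · rw [hc2]; exact hya.symm
    rw [hs, Finset.card_eq_three]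
    exact ⟨a, x • a, y • a, ha.symm, hya.symm, hxy, rfl⟩
  · intro ω hω
    rw [MulAction.toPermHom_apply, MulAction.toPerm_apply] at hω
    apply hcΩ
    · intro h'; rw [h', hc3] at hω; exact ha hω
    · intro h'; rw [h', hc1] at hω; exact hxy hω.symm
    · intro h'; rw [h', hc2] at hω; exact hya hω.symm

/-- The covering `π` is injective. -/
theorem injective_of_quasi (π : Ω → S) (hπ : ∀ (g : G) ω, π (g • ω) = g • π ω)
    (hf : ∀ g : G, (∀ s : S, g • s = s) → g = 1)
    (hqp : ∀ N : Subgroup G, N.Normal → N ≠ ⊥ → MulAction.IsPretransitive ↥N Ω)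
    (hA : alternatingGroup S ≤ (MulAction.toPermHom G S).range)
    (Γ : Finset S) (h2 : 2 * Γ.card < Fintype.card S) (hΓ : 2 ≤ Γ.card)
    (x : G) (hx : ∀ ω, π ω ∉ Γ → x • ω = ω) (hx' : ∀ s, s ∉ Γ → x • s = s)
    (a : S) (ha : x • a ≠ a) : Function.Injective π := by
  classical
  obtain ⟨c, hc3, hcf⟩ := exists_three π hπ hA Γ h2 hΓ x hx hx' a ha
  have hinj : Function.Injective (MulAction.toPermHom G S) := by
    rw [injective_iff_map_eq_one]
    intro g hg
    apply hf
    intro s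
    have := DFunLike.congr_fun hg s
    simpa using this
  have h5 : 5 ≤ Nat.card S := by rw [Nat.card_eq_fintype_card]; omega
  -- every element inducing a 3-cycle
  have h3 : ∀ g : G, IsThreeCycle (MulAction.toPermHom G S g) →
      ∀ ω, MulAction.toPermHom G S g (π ω) = π ω → g • ω = ω := by
    intro g hg ω hω
    have hcon := alternatingGroup.isThreeCycle_isConj h5
      (σ := ⟨_, hc3.mem_alternatingGroup⟩) (τ := ⟨_, hg.mem_alternatingGroup⟩) hc3 hg
    rw [isConj_iff] at hcon
    obtain ⟨⟨u, hu⟩, hu'⟩ := hcon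
    obtain ⟨h, rfl⟩ := hA hu
    have h6 : MulAction.toPermHom G S h * MulAction.toPermHom G S c * (MulAction.toPermHom G S h)⁻¹ =
        MulAction.toPermHom G S g := congrArg Subtype.val hu'
    rw [← map_inv, ← map_mul, ← map_mul] at h6
    have h7 := hinj h6
    have h8 : c • (h⁻¹ • ω) = h⁻¹ • ω := by
      apply hcf
      rw [hπ]
      rw [← h7] at hω
      simp only [MulAction.toPermHom_apply, MulAction.toPerm_apply, mul_smul] at hω ⊢
      rw [← eq_inv_smul_iff] at hω
      exact hω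
    rw [← h7, mul_smul, mul_smul, h8, smul_inv_smul]
  -- even permutations fixing a point
  have h4 : ∀ (β : S) (σ : Equiv.Perm {s // s ≠ β}), σ ∈ alternatingGroup {s // s ≠ β} →
      ∀ g : G, MulAction.toPermHom G S g = ofSubtype σ → ∀ ω, π ω = β → g • ω = ω := by
    intro β σ hσ
    rw [← closure_three_cycles_eq_alternating] at hσ
    induction hσ using Subgroup.closure_induction with
    | mem τ hτ =>
      intro g hg ω hω
      have hτ' : IsThreeCycle τ := hτ
      apply h3 g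
      · rw [hg, IsThreeCycle, cycleType_ofSubtype]
        exact hτ'
      · rw [hg, hω]
        exact ofSubtype_apply_of_not_mem τ (by simp)
    | one =>
      intro g hg ω _
      rw [map_one] at hg
      have := hinj (hg.trans (map_one _).symm)
      rw [this, one_smul]
    | mul σ τ hσ hτ ih1 ih2 =>
      intro g hg ω hω
      have hσ' : ofSubtype σ ∈ alternatingGroup S := by
        rw [closure_three_cycles_eq_alternating] at hσ
        rw [mem_alternatingGroup] at hσ ⊢
        rw [sign_ofSubtype, hσ]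
      have hτ' : ofSubtype τ ∈ alternatingGroup S := by
        rw [closure_three_cycles_eq_alternating] at hτ
        rw [mem_alternatingGroup] at hτ ⊢
        rw [sign_ofSubtype, hτ]
      obtain ⟨g₁, hg₁⟩ := hA hσ'
      obtain ⟨g₂, hg₂⟩ := hA hτ'
      have : g = g₁ * g₂ := by
        apply hinj
        rw [hg, map_mul, map_mul, hg₁, hg₂]
      rw [this, mul_smul, ih2 g₂ hg₂ ω hω, ih1 g₁ hg₁ ω hω]
    | inv σ hσ ih =>
      intro g hg ω hω
      have : g⁻¹ • ω = ω := ih g⁻¹ (by rw [map_inv, hg, map_inv, inv_inv]) ω hω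
      rw [← this, smul_inv_smul, this]
  -- the normal subgroup
  let N : Subgroup G := (alternatingGroup S).comap (MulAction.toPermHom G S)
  have hN : N.Normal := inferInstance
  have hcN : c ∈ N := hc3.mem_alternatingGroup
  have hN1 : N ≠ ⊥ := by
    intro h
    rw [h, Subgroup.mem_bot] at hcN
    rw [hcN, map_one] at hc3
    have := hc3.card_support
    simp at this
  have hNt := hqp N hN hN1
  intro ω ω' hωω'
  obtain ⟨⟨n, hn⟩, hnω⟩ := hNt.exists_smul_eq ω ω'
  have hnω' : n • ω = ω' := hnω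
  have hnβ : MulAction.toPermHom G S n (π ω) = π ω := by
    rw [MulAction.toPermHom_apply, MulAction.toPerm_apply, ← hπ, hnω', hωω']
  have hp : ∀ s, s ≠ π ω ↔ MulAction.toPermHom G S n s ≠ π ω := by
    intro s
    constructor
    · intro h1 h2
      exact h1 ((MulAction.toPermHom G S n).injective (h2.trans hnβ.symm))
    · rintro h1 rfl
      exact h1 hnβ
  have h8 : n • ω = ω := by
    refine h4 (π ω) ((MulAction.toPermHom G S n).subtypePerm fun s => (hp s).symm) ?_ n ?_ ω rfl
    · rw [mem_alternatingGroup, sign_subtypePerm]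
      · exact hn
      · intro s hs hs'
        exact hs (hs' ▸ hnβ)
    · rw [ofSubtype_subtypePerm]
      intro s hs hs'
      exact hs (hs' ▸ hnβ)
  rw [← hnω', h8]

end cover

end Cfsg.Agent.H411.JordanQuasi
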