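import Mathlib
import Cfsg.Agent.H411.JordanQuasi

/-!
# Quasiprimitive groups with a Jordan set of size less than half the degree
-/

set_option autoImplicit false

namespace Cfsg.Agent.H411.JordanFinal

open MulAction Cfsg.Agent.H411.JordanSets Equiv.Perm
open scoped Pointwise

variable {G Ω : Type*} [Group G] [MulAction G Ω]

/-- A maximal block system: an equivariant map onto the cosets of a maximal subgroup containing a
point stabilizer. -/
theorem exists_map [IsPretransitive G Ω] (ω₀ : Ω) (M : Subgroup G) (hM : stabilizer G ω₀ ≤ M) :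
    ∃ π : Ω → G ⧸ M, (∀ (g : G) ω, π (g • ω) = g • π ω) ∧ π ω₀ = ((1 : G) : G ⧸ M) := by
  choose c hc using fun ω => exists_smul_eq G ω₀ ω
  have key : ∀ (g g' : G), g • ω₀ = g' • ω₀ → (g : G ⧸ M) = (g' : G ⧸ M) := by
    intro g g' h
    rw [QuotientGroup.eq]
    apply hM
    rw [mem_stabilizer_iff, mul_smul, inv_smul_eq_iff, h]
  refine ⟨fun ω => (c ω : G ⧸ M), fun g ω => ?_, ?_⟩
  · change ((c (g • ω) : G) : G ⧸ M) = ((g * c ω : G) : G ⧸ M)
    apply key
    rw [hc, mul_smul, hc]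
  · apply key
    rw [hc, one_smul]

theorem main [Finite G] [FaithfulSMul G Ω] [Fintype Ω] [DecidableEq Ω]
    (hqp : ∀ N : Subgroup G, N.Normal → N ≠ ⊥ → MulAction.IsPretransitive ↥N Ω)
    (Γ : Finset Ω) (hΓ1 : 2 ≤ Γ.card) (hΓ2 : 2 * Γ.card < Fintype.card Ω)
    (hJ : IsJ G (Γ : Set Ω)) : alternatingGroup Ω ≤ (MulAction.toPermHom G Ω).range := by
  classical
  obtain ⟨a, ha, b, hb, hab⟩ := Finset.one_lt_card.mp hΓ1
  obtain ⟨k₀, hk₀, hk₀a⟩ := hJ a (by simpa using ha) b (by simpa using hb)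
  have hk₀' : ∀ z, z ∉ Γ → k₀ • z = z := fun z hz => hk₀ z (by simpa using hz)
  have hk₀1 : k₀ ≠ 1 := by
    rintro rfl
    exact hab (by simpa using hk₀a)
  have hGtop : (⊤ : Subgroup G) ≠ ⊥ := fun h => by
    have : k₀ ∈ (⊥ : Subgroup G) := h ▸ Subgroup.mem_top _
    exact hk₀1 (Subgroup.mem_bot.mp this)
  have hGt : IsPretransitive G Ω := by
    have := hqp ⊤ inferInstance hGtop
    refine ⟨fun x y => ?_⟩
    obtain ⟨g, hg⟩ := this.exists_smul_eq x y
    exact ⟨g, hg⟩
  have : Nontrivial Ω := ⟨a, b, hab⟩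
  have hst : stabilizer G a ≠ ⊤ := by
    intro h
    have : k₀ ∈ stabilizer G a := h ▸ Subgroup.mem_top _
    rw [mem_stabilizer_iff, hk₀a] at this
    exact hab this.symm
  obtain ⟨M, hMc, hMs⟩ := (eq_top_or_exists_le_coatom (stabilizer G a)).resolve_left hst
  obtain ⟨π, hπ, hπa⟩ := exists_map a M hMs
  -- if `π` is injective then the group is primitive
  suffices hinj : Function.Injective π by
    have hMeq : stabilizer G a = M := by
      apply le_antisymm hMs
      intro m hm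
      rw [mem_stabilizer_iff]
      apply hinj
      rw [hπ, hπa]
      change ((m * 1 : G) : G ⧸ M) = _
      rw [mul_one]
      exact (QuotientGroup.eq.mpr (by simpa using hm)).symm
    have hprim : IsPreprimitive G Ω := by
      rw [← isCoatom_stabilizer_iff_preprimitive G a, hMeq]
      exact hMc
    exact JordanPrim.alternating_le_of_isJ hprim Γ hΓ1 hΓ2 hJ
  haveI : Fintype (G ⧸ M) := Fintype.ofFinite _
  -- faithfulness
  have hf : ∀ g : G, (∀ s : G ⧸ M, g • s = s) → g = 1 := by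
    have hker : (MulAction.toPermHom G (G ⧸ M)).ker = ⊥ := by
      by_contra hne
      have hNt := hqp _ inferInstance hne
      apply hMc.1
      rw [Subgroup.eq_top_iff']
      intro g
      obtain ⟨⟨n, hn⟩, hna⟩ := hNt.exists_smul_eq a (g • a)
      have hna' : n • a = g • a := hna
      have h1 : n • π a = π a := by
        rw [MonoidHom.mem_ker] at hn
        have := DFunLike.congr_fun hn (π a)
        simpa using this
      have h2 : g • π a = π a := by rw [← hπ, ← hna', hπ, h1]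
      rw [hπa] at h2
      have h3 : ((g * 1 : G) : G ⧸ M) = ((1 : G) : G ⧸ M) := h2
      rw [mul_one, eq_comm, QuotientGroup.eq] at h3
      simpa using h3
    intro g hg
    have : g ∈ (MulAction.toPermHom G (G ⧸ M)).ker := by
      rw [MonoidHom.mem_ker]
      ext s
      simpa using hg s
    rwa [hker, Subgroup.mem_bot] at this
  have hsurj : Function.Surjective π := by
    intro s
    obtain ⟨g, rfl⟩ := QuotientGroup.mk_surjective s
    refine ⟨g • a, ?_⟩
    rw [hπ, hπa]
    change ((g * 1 : G) : G ⧸ M) = _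
    rw [mul_one]
  -- saturation
  have hsat : ∀ ω ∈ Γ, ∀ ω', π ω' = π ω → ω' ∈ Γ := by
    intro ω hω ω' hωω'
    by_contra hω'
    have h1 : ∀ y ∈ Γ, π y = π ω := by
      intro y hy
      obtain ⟨κ, hκ, hκy⟩ := hJ ω (by simpa using hω) y (by simpa using hy)
      rw [← hκy, hπ, ← hωω', ← hπ, hκ ω' (by simpa using hω')]
    apply hk₀1
    apply hf
    intro s
    by_cases hs : ∃ y, y ∉ Γ ∧ π y = s
    · obtain ⟨y, hy, rfl⟩ := hs
      rw [← hπ, hk₀' y hy]
    · push Not at hs
      obtain ⟨y, rfl⟩ := hsurj s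
      have hy : y ∈ Γ := by
        by_contra hy
        exact hs y hy rfl
      exact absurd (hωω'.trans (h1 y hy).symm) (hs ω' hω')
  set Γ' : Finset (G ⧸ M) := Γ.image π with hΓ'
  have hmem : ∀ ω, π ω ∈ Γ' ↔ ω ∈ Γ := by
    intro ω
    rw [hΓ', Finset.mem_image]
    constructor
    · rintro ⟨y, hy, hyω⟩
      exact hsat y hy ω hyω.symm
    · exact fun h => ⟨ω, h, rfl⟩
  have hJ' : IsJ G (Γ' : Set (G ⧸ M)) := by
    intro x hx y hy
    obtain ⟨x, rfl⟩ := hsurj x
    obtain ⟨y, rfl⟩ := hsurj y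
    rw [Finset.mem_coe, hmem] at hx hy
    obtain ⟨κ, hκ, hκy⟩ := hJ x (by simpa using hx) y (by simpa using hy)
    refine ⟨κ, fun z hz => ?_, ?_⟩
    · obtain ⟨z, rfl⟩ := hsurj z
      rw [Finset.mem_coe, hmem] at hz
      rw [← hπ, hκ z (by simpa using hz)]
    · rw [← hπ, hκy]
  have hk₀S : ∀ s, s ∉ Γ' → k₀ • s = s := by
    intro s hs
    obtain ⟨z, rfl⟩ := hsurj s
    rw [hmem] at hs
    rw [← hπ, hk₀' z hs]
  -- `k₀` moves a point of `S`
  have hmv : ∃ s : G ⧸ M, k₀ • s ≠ s := by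
    by_contra h
    push Not at h
    exact hk₀1 (hf k₀ h)
  obtain ⟨s₀, hs₀⟩ := hmv
  have hs₀Γ : s₀ ∈ Γ' := by
    by_contra h
    exact hs₀ (hk₀S s₀ h)
  have hks₀Γ : k₀ • s₀ ∈ Γ' := by
    by_contra h
    have := hk₀S _ h
    exact hs₀ (smul_left_cancel k₀ this)
  have hΓ'2 : 2 ≤ Γ'.card := Finset.one_lt_card.mpr ⟨_, hs₀Γ, _, hks₀Γ, hs₀.symm⟩
  -- fibres
  have hfib : ∀ s : G ⧸ M, (Finset.univ.filter fun ω => π ω = s).card =
      (Finset.univ.filter fun ω => π ω = π a).card := by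
    intro s
    obtain ⟨y, rfl⟩ := hsurj s
    obtain ⟨g, rfl⟩ := exists_smul_eq G a y
    refine Finset.card_nbij' (fun ω => g⁻¹ • ω) (fun ω => g • ω) ?_ ?_ ?_ ?_
    · intro ω hω
      simp only [Finset.coe_filter, Finset.mem_univ, true_and, Set.mem_ofPred_eq] at hω ⊢
      rw [hπ, hω, hπ, inv_smul_smul]
    · intro ω hω
      simp only [Finset.coe_filter, Finset.mem_univ, true_and, Set.mem_ofPred_eq] at hω ⊢
      rw [hπ, hω, hπ]
    · intro ω _
      simp
    · intro ω _
      simp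
  set f := (Finset.univ.filter fun ω => π ω = π a).card with hfdef
  have hcΩ : Fintype.card Ω = Fintype.card (G ⧸ M) * f := by
    rw [← Finset.card_univ (α := Ω), Finset.card_eq_sum_card_fiberwise (f := π)
      (t := (Finset.univ : Finset (G ⧸ M))) (fun _ _ => by simp)]
    rw [Finset.sum_congr rfl (fun s _ => hfib s), Finset.sum_const, Finset.card_univ, smul_eq_mul]
  have hcΓ : Γ.card = Γ'.card * f := by
    rw [Finset.card_eq_sum_card_fiberwise (f := π) (s := Γ)
      (t := Γ') (fun x hx => by simpa using (hmem x).mpr (by simpa using hx))]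
    have : ∀ s ∈ Γ', (Γ.filter fun ω => π ω = s).card = f := by
      intro s hs
      rw [← hfib s]
      congr 1
      ext ω
      simp only [Finset.mem_filter, Finset.mem_univ, true_and, and_iff_right_iff_imp]
      rintro rfl
      exact (hmem ω).mp hs
    rw [Finset.sum_congr rfl this, Finset.sum_const, smul_eq_mul]
  have hΓ'lt : 2 * Γ'.card < Fintype.card (G ⧸ M) := by
    rw [hcΩ, hcΓ, ← mul_assoc] at hΓ2
    exact lt_of_mul_lt_mul_right hΓ2 (Nat.zero_le _)
  -- primitivity on the quotient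
  have : Nontrivial (G ⧸ M) := ⟨s₀, k₀ • s₀, hs₀.symm⟩
  have hprim : IsPreprimitive G (G ⧸ M) := by
    rw [← isCoatom_stabilizer_iff_preprimitive G ((1 : G) : G ⧸ M), stabilizer_quotient]
    exact hMc
  have hA := JordanPrim.alternating_le_of_isJ hprim Γ' hΓ'2 hΓ'lt hJ'
  exact JordanQuasi.injective_of_quasi π hπ hf hqp hA Γ' hΓ'lt hΓ'2 k₀
    (fun ω hω => hk₀' ω (fun h => hω ((hmem ω).mpr h))) hk₀S s₀ hs₀

end Cfsg.Agent.H411.JordanFinal
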