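import Cfsg.Agent.H411.MThree
import Cfsg.Agent.H792.Sp.FiONLy

/-!
# The Monster, `p = 3`: the row of the Flores-Foote programme (helper411)
-/

set_option autoImplicit false

namespace Cfsg.Agent.H411.MThreeFin

open Cfsg Cfsg.Agent.H749

local instance : Fact (Nat.Prime 3) := ⟨Nat.prime_three⟩

/-- **The Monster, `p = 3`** -/
theorem fullP_m_three {G : Type*} [Group G] (h : Cfsg.Spor.IsoM G) : Cfsg.Agent.H749.FullP 3 G := by
  have hM : Finite ↥MonsterX.InstData.M.G := LThreeMB.Row.finite_model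
  have hCo1 : Finite Cfsg.Spor.Co1 :=
    Finite.of_surjective _ (LThreeMB.KChart.chart MonsterX.KDone.lft LThreeMB.Row.cent).pi_surj
  have hFi23 : Finite Cfsg.Spor.Fi23 := Nat.finite_of_card_ne_zero (by rw [Cfsg.Agent.S1697.result.2]; norm_num)
  have hB : Finite Cfsg.Spor.BabyMonster := Nat.finite_of_card_ne_zero (by rw [BM.KHAll.card_B]; norm_num)
  have h22 : FullP 3 Cfsg.Spor.Fi22 := H792.SpLie.fullP_fi22_three ⟨MulEquiv.refl _⟩
  have h23 : FullP 3 Cfsg.Spor.Fi23 := H843.FullFiD.fullP_Fi23 h22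
  exact MThree.fullP_m_three' h (H812.FullCo1.fullP_co1_three ⟨MulEquiv.refl _⟩) (H843.FullB3.fullP_BabyMonster h23)

end Cfsg.Agent.H411.MThreeFin
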